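import Cfsg.Agent.Lib.LyonsMult.Weights
import Cfsg.Agent.Lib.LyonsMult.Data
import Cfsg.Agent.Lib.Lyons.Presentation

/-!
Kernel checks of the weights, of the closed identities among the central constants and of the relators of the
Lyons group.
-/

set_option autoImplicit false
set_option maxRecDepth 100000
set_option maxHeartbeats 0

namespace Cfsg.Agent.LyonsMult

open Cfsg.Agent.CosetCert Cfsg.Agent.Lyons

noncomputable section

/-- The checks of the weights of facts `a, …, a + 19`. -/
def weightBlock (a : ℕ) : Bool :=
  allBelow (fun j => okFactV FactData.data rotQ factV (Nat.add a j)) (bif Nat.blt (Nat.add a 19) 95 then 20 else 15)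

theorem weight0 : weightBlock 0 = true := by decide +kernel
theorem weight20 : weightBlock 20 = true := by decide +kernel
theorem weight40 : weightBlock 40 = true := by decide +kernel
theorem weight60 : weightBlock 60 = true := by decide +kernel
theorem weight80 : weightBlock 80 = true := by decide +kernel

theorem weights_ok {n : ℕ} (hn : n < 95) : okFactV FactData.data rotQ factV n = true := by
  obtain ⟨a, j, ha, hj, rfl⟩ : ∃ a j, (a = 0 ∨ a = 20 ∨ a = 40 ∨ a = 60 ∨ (a = 80 ∧ j < 15)) ∧ j < 20 ∧ n = a + j :=
    ⟨n / 20 * 20, n % 20, by omega, Nat.mod_lt _ (by norm_num), by omega⟩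
  rcases ha with rfl | rfl | rfl | rfl | ⟨rfl, hj'⟩
  exacts [allBelow_spec weight0 hj, allBelow_spec weight20 hj, allBelow_spec weight40 hj,
    allBelow_spec weight60 hj, allBelow_spec weight80 hj']

/-- A letter and a word equal to its image under conjugation, whose image is the conjugate by `a²`. -/
def okTwice (t : ℕ × List ℕ) : Bool :=
  inKLets [t.1] && inKLets t.2 && sameW t.2 (FactData.data.sig.get t.1) &&
    sameW (sigW FactData.data t.2) (invL wU ++ [t.1] ++ wU)

theorem twice_ok : twiceD.all okTwice = true := by decide +kernel

/-- A closed loop reading a rotated relator. -/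
def okLoop (L : ℕ × List ℕ × List (List ℕ)) : Bool :=
  match runMoves FactData.data 95 L.2.2 ⟨[], 0, L.2.1, []⟩ with
  | some s => Nat.blt L.1 FactData.data.rots.length && Nat.beq s.k 0 &&
      itemsEq s.W (headW (FactData.data.rots.getD L.1 [])) && sameW (s.A ++ s.u) L.2.1
  | none => false

theorem loops_ok : loopD.all okLoop = true := by decide +kernel

/-- The vectors which vanish. -/
def idVs : List (List ℤ) :=
  addV (smulV (-1) (unitV 8)) (unitV 9) ::
    (twiceD.map (fun t => addV (eV t.1) (eW t.2)) ++
      loopD.map (fun L => addV (rotV rotQ L.1) (smulV (-1) (movesV factV L.2.2))))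

/-- A linear combination. -/
def linC : List ℤ → List (List ℤ) → List ℤ
  | k :: ks, v :: vs => addV (smulV k v) (linC ks vs)
  | _, _ => []

theorem comb_ok : allBelow (fun i => decide (linC (combD.getD i []) idVs = unitV i)) 14 = true := by
  decide +kernel

/-- The base of each rotated relator. -/
def rotBaseOf (q : ℕ) : List (List ℕ) := FactData.data.rots.getD (rotBase.getD (rotQ.getD q 0) 0) []

/-- Each rotated relator is a rotation of its base. -/
def rotCheck : Bool :=
  Nat.beq FactData.data.rots.length 18 && allBelow (fun q => Nat.blt (rotQ.getD q 0) 5 &&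
    sameL (FactData.data.rots.getD q [])
      ((rotBaseOf q).drop (rotShift.getD q 0) ++ (rotBaseOf q).take (rotShift.getD q 0))) 18

theorem rotCheck_ok : rotCheck = true := by decide +kernel

theorem gauge_ok : Nat.beq (FactData.data.rots.getD (rotBase.getD 0 0) []).length 3 = true := by decide +kernel

/-- The letters standing for the first eight constants. -/
def repLets : List ℕ := [0, 4, 10, 12, 14, 16, 18, 20]

/-- Both letters of each generator of the conjugated subgroup. -/
def repCheck : Bool :=
  allBelow (fun i =>
    let l := repLets.getD i 0
    decide (eV l = unitV i) && decide (eV (flipL l) = smulV (-1) (unitV i)) &&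
      sameW (invL (FactData.data.sig.get l)) (FactData.data.sig.get (flipL l)) && inKLets [l]) 8 &&
    kLets.all fun l => (List.range 8).any fun i =>
      Nat.beq l (repLets.getD i 0) || Nat.beq l (flipL (repLets.getD i 0))

theorem repCheck_ok : repCheck = true := by decide +kernel

/-- The relators without `z`. -/
def freeRels : Bool := allBelow (fun k => sameW (relW k) []) 72

theorem freeRels_ok : freeRels = true := by decide +kernel

/-- The relators reading as closed rotated relators. -/
def zRels : Bool :=
  Nat.beq Cfsg.Spor.Ly.extra.length 86 && [81, 82, 83, 84, 85].all fun k =>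
    (relW k).all (fun l => Nat.blt l 24) && !(cutZ (relW k)).2.isEmpty &&
      (List.range 18).any fun q => sameL (FactData.data.rots.getD q []) (closeW (cutZ (relW k)))

theorem zRels_ok : zRels = true := by decide +kernel

theorem rel80_ok : wordEq (fred (relW 80)) [22, 22, 1, 1] = true := by decide +kernel

theorem code_lt : ∀ g, (code g).all (fun l => Nat.blt l 24) = true := by intro g; cases g <;> decide +kernel

end

end Cfsg.Agent.LyonsMult
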