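import Cfsg.Agent.Lib.LyonsMult.Out
import Cfsg.Agent.Lib.Lyons.G2Five
import Cfsg.Agent.Lib.Lie.CovExtension
import Cfsg.Agent.Lib.Lie.CovMult
import Cfsg.Prelude.Def_KGroupFacts

/-!
Every finite stem extension of the Lyons group is trivial: the subgroup of order 5859000000 lifts, and the
closed identities among the central constants force the lifted relations to hold.
-/

set_option autoImplicit false
set_option maxRecDepth 100000
set_option linter.style.haveILetI false

namespace Cfsg.Agent.LyonsMult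

open Cfsg.Agent.CosetCert Cfsg.Agent.Lyons Cfsg.Lie
open scoped IsMulCommutative

noncomputable section

local instance fact_five' : Fact (Nat.Prime 5) := ⟨by norm_num⟩

/-- The map of the subgroup lifts to any central extension. -/
theorem exists_lift {Γ : Type} [Group Γ] (σ : Γ →* LyG) (hs : Function.Surjective σ)
    (hc : σ.ker ≤ Subgroup.center Γ) : ∃ ρ : H0 →* Γ, σ.comp ρ = psiLy := by
  obtain ⟨e⟩ := nonempty_H0_equiv
  obtain ⟨e'⟩ := Chev.exists_cover_equiv_group (F := ZMod 5) (D := chevG2) (by simp)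
  obtain ⟨τ, hτ⟩ := Chev.exists_cover_lift (F := ZMod 5) (s := Finset.univ) (by simp) (D := chevG2) (by simp)
    σ hs hc ((psiLy.comp e.symm.toMonoidHom).comp e'.toMonoidHom)
  refine ⟨(τ.comp e'.symm.toMonoidHom).comp e.toMonoidHom, MonoidHom.ext fun h => ?_⟩
  have := DFunLike.congr_fun hτ (e'.symm (e h))
  simpa using this

theorem sameL_rots {q : ℕ} (hq : q < 18) :
    rotQ.getD q 0 < 5 ∧ sameL (FactData.data.rots.getD q [])
      ((rotBaseOf q).drop (rotShift.getD q 0) ++ (rotBaseOf q).take (rotShift.getD q 0)) = true := by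
  have h := rotCheck_ok
  simp only [rotCheck, Bool.and_eq_true] at h
  have := allBelow_spec h.2 hq
  simp only [Bool.and_eq_true, Nat.blt_eq] at this
  exact this

theorem items_mul_central {G : Type*} [Group G] (ψ : H0 →* G) (z w : G) (hw : w ∈ Subgroup.center G) :
    ∀ r : List (List ℕ), itemsV ψ (z * w) (headW r) = itemsV ψ z (headW r) * w ^ r.length
  | [] => by simp [headW, itemsV]
  | h :: r => by
    have ih := items_mul_central ψ z w hw r
    simp only [itemsV] at ih ⊢
    simp only [headW, List.map_cons, List.prod_cons, itemV, List.length_cons, pow_succ']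
    rw [ih, mul_assoc z w, ← mul_assoc w, ← Subgroup.mem_center_iff.1 hw (ψ (el h))]
    simp only [mul_assoc]
    rw [← mul_assoc w, ← Subgroup.mem_center_iff.1 hw ((headW r).map (itemV ψ z)).prod, mul_assoc]

theorem items_map {G K : Type*} [Group G] [Group K] (φ : G →* K) (ψ : H0 →* G) (z : G)
    (W : List (Option (List ℕ))) : φ (itemsV ψ z W) = itemsV (φ.comp ψ) (φ z) W := by
  rw [itemsV, map_list_prod, List.map_map]
  exact congrArg List.prod (List.map_congr_left fun o _ => by cases o <;> rfl)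

variable {G : Type*} [Group G] (ψ : H0 →* G) (z : G)

/-- The error of constant `i`. -/
def rawC (i : ℕ) : G :=
  if i < 8 then (ψ (el (FactData.data.sig.get (repLets.getD i 0))))⁻¹ * (z⁻¹ * ψ (el [repLets.getD i 0]) * z)
  else if i = 8 then (ψ (el wU))⁻¹ * (z * z)
  else itemsV ψ z (headW (FactData.data.rots.getD (rotBase.getD (i - 9) 0) []))

/-- The named elements. -/
def xV : ℕ → G
  | 1 => z
  | 2 => z * ψ (el (FactData.data.defs.getD 1 (0, 0, [])).2.2) * z
  | 3 => z * ψ (el (FactData.data.defs.getD 2 (0, 0, [])).2.2) * z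
  | 4 => z * ψ (el (FactData.data.defs.getD 3 (0, 0, [])).2.2) * z
  | _ => 1

variable {ψ z} {c : ℕ → Subgroup.center G}

theorem cg_unit {i : ℕ} (hi : i < 14) : cg c (unitV i) = (c i : G) := by rw [cg, cv_unitV c hi]

theorem wRules (hc : ∀ i < 14, (c i : G) = rawC ψ z i) :
    WRules c FactData.data rotQ ψ z (xV ψ z) where
  x0 := rfl
  x1 := rfl
  zz := by
    rw [zzV, cg_unit (by norm_num), hc 8 (by norm_num), rawC, if_neg (by norm_num), if_pos rfl]
    group
  conj := by
    intro l hl
    have h := repCheck_ok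
    simp only [repCheck, Bool.and_eq_true, List.all_eq_true, List.any_eq_true, Bool.or_eq_true,
      Nat.beq_eq] at h
    obtain ⟨i, hi, hli⟩ := h.2 l hl
    rw [List.mem_range] at hi
    have hs := allBelow_spec h.1 hi
    simp only [Bool.and_eq_true, decide_eq_true_eq] at hs
    obtain ⟨⟨⟨e1, e2⟩, hinv⟩, -⟩ := hs
    have base : z⁻¹ * ψ (el [repLets.getD i 0]) * z =
        ψ (el (FactData.data.sig.get (repLets.getD i 0))) * cg c (unitV i) := by
      rw [cg_unit (by omega), hc i (by omega), rawC, if_pos hi, mul_inv_cancel_left]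
    rcases hli with rfl | rfl
    · rw [e1, base]
    · rw [e2, cg_neg, ← eq_of_sameW hinv, el_invL, map_inv,
        show el [flipL (repLets.getD i 0)] = (el [repLets.getD i 0])⁻¹ by simp [el, wv, lt'_flipL], map_inv,
        show ∀ y : G, z⁻¹ * y⁻¹ * z = (z⁻¹ * y * z)⁻¹ from fun y => by group, base, mul_inv_rev,
        ← cg_neg, cg_comm]
  rel := by
    intro q hq
    have hl : FactData.data.rots.length = 18 := by
      have := rotCheck_ok
      simp only [rotCheck, Bool.and_eq_true, Nat.beq_eq] at this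
      exact this.1
    obtain ⟨h5, hs⟩ := sameL_rots (hl ▸ hq)
    have hb : itemsV ψ z (headW (rotBaseOf q)) = cg c (rotV rotQ q) := by
      rw [rotV, show Nat.add 9 (rotQ.getD q 0) = 9 + rotQ.getD q 0 from rfl, cg_unit (by omega),
        hc _ (by omega), rawC, if_neg (by omega), if_neg (by omega), Nat.add_sub_cancel_left]
      rfl
    rw [items_sameL hs, headW_append, itemsV_append]
    rw [← List.take_append_drop (rotShift.getD q 0) (rotBaseOf q), headW_append, itemsV_append] at hb
    set a := itemsV ψ z (headW ((rotBaseOf q).take (rotShift.getD q 0)))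
    set b := itemsV ψ z (headW ((rotBaseOf q).drop (rotShift.getD q 0)))
    calc b * a = a⁻¹ * (a * b) * a := by group
      _ = _ := by rw [hb, mul_assoc, ← cg_comm, ← mul_assoc, inv_mul_cancel, one_mul]
  def_ := by
    intro d hd
    simp only [FactData.data, FactData.defs, List.mem_cons, List.not_mem_nil, or_false] at hd
    rcases hd with rfl | rfl | rfl | rfl <;>
      simp [xV, FactData.data, FactData.defs, el]

theorem whold (R : WRules c FactData.data rotQ ψ z (xV ψ z)) :
    ∀ n < 95, WHolds c FactData.data factV ψ z (xV ψ z) n := by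
  intro n
  induction n using Nat.strong_induction_on with
  | _ n ih => exact fun hn => okFactV_sound c R (weights_ok hn) fun k hk => ih k hk (hk.trans hn)

theorem cg_linC : ∀ (ks : List ℤ) (vs : List (List ℤ)), (∀ v ∈ vs, cg c v = 1) → cg c (linC ks vs) = 1
  | [], vs, _ => by simp [linC, cg_nil]
  | _ :: _, [], _ => by simp [linC, cg_nil]
  | k :: ks, v :: vs, h => by
    rw [linC, cg_addV, cg_smulV, h v List.mem_cons_self, one_zpow,
      cg_linC ks vs fun y hy => h y (List.mem_cons_of_mem _ hy), one_mul]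

theorem const_one (hc : ∀ i < 14, (c i : G) = rawC ψ z i) (hgauge : (c 8 : G) = c 9) {i : ℕ}
    (hi : i < 14) : rawC ψ z i = 1 := by
  have R := wRules hc
  have hv : ∀ v ∈ idVs, cg c v = 1 := by
    intro v hv
    simp only [idVs, List.mem_cons, List.mem_append, List.mem_map] at hv
    rcases hv with rfl | ⟨⟨l, kw⟩, ht, rfl⟩ | ⟨⟨q, h, mv⟩, hL, rfl⟩
    · rw [cg_addV, cg_neg, cg_unit (by norm_num), cg_unit (by norm_num), hgauge, inv_mul_cancel]
    · have hok := List.all_eq_true.1 twice_ok _ ht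
      simp only [okTwice, Bool.and_eq_true] at hok
      obtain ⟨⟨⟨hl, hkw⟩, hw⟩, hs⟩ := hok
      have e1 := R.conj l (inKLets_spec hl l List.mem_cons_self)
      rw [← eq_of_sameW hw] at e1
      have e2 := conj_wW c R (inKLets_spec hkw)
      rw [eq_of_sameW hs, el_append, el_append, el_invL, map_mul, map_mul, map_inv] at e2
      have lhs : z⁻¹ * (z⁻¹ * ψ (el [l]) * z) * z = (ψ (el wU))⁻¹ * ψ (el [l]) * ψ (el wU) := by
        rw [show z⁻¹ * (z⁻¹ * ψ (el [l]) * z) * z = (z * z)⁻¹ * ψ (el [l]) * (z * z) by group, R.zz,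
          mul_inv_rev, cg_comm c zzV (ψ (el wU))]
        simp only [mul_assoc]
        rw [cg_left c zzV (ψ (el [l])), cg_left c zzV (ψ (el wU))⁻¹, inv_mul_cancel_left]
      rw [e1, show z⁻¹ * (ψ (el kw) * cg c (eV l)) * z = (z⁻¹ * ψ (el kw) * z) * cg c (eV l) by
        simp only [mul_assoc]; rw [cg_comm c (eV l) z], e2, mul_assoc _ (cg c (eW kw)), mul_eq_left] at lhs
      show cg c (addV (eV l) (eW kw)) = 1
      rw [cg_addV, cg_comm c (eW kw), lhs]
    · have hok := List.all_eq_true.1 loops_ok _ hL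
      simp only [okLoop] at hok
      cases hr : runMoves FactData.data 95 mv ⟨[], 0, h, []⟩ with
      | none => simp [hr] at hok
      | some s =>
        simp only [hr, Bool.and_eq_true, Nat.blt_eq, Nat.beq_eq] at hok
        obtain ⟨⟨⟨hq, hk⟩, hW⟩, hA⟩ := hok
        have key := runMoves_weight c R (whold R) (base := ψ (el h)) mv hr (g := [])
          (by simp [DSt.val, itemsV, cg_nil, xV, show el ([] : List ℕ) = 1 from rfl])
        simp only [DSt.val, hk, cg_nil, mul_one] at key
        rw [show xV ψ z 0 = 1 from rfl, mul_one, ← map_mul, ← el_append, eq_of_sameW hA,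
          itemsV_eq_of_itemsEq hW, R.rel q hq] at key
        rw [cg_addV, cg_neg, mul_left_cancel key, mul_inv_cancel]
  have hcomb := allBelow_spec comb_ok hi
  rw [decide_eq_true_eq] at hcomb
  rw [← hc i hi, ← cg_unit hi, ← hcomb]
  exact cg_linC _ _ hv

theorem rawC_map {K : Type*} [Group K] (φ : G →* K) (i : ℕ) :
    φ (rawC ψ z i) = rawC (φ.comp ψ) (φ z) i := by
  unfold rawC
  split_ifs <;> simp [items_map]

theorem rawC_ly (i : ℕ) : rawC psiLy zLy i = 1 := by
  unfold rawC
  split_ifs with h1 h2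
  · have h := repCheck_ok
    simp only [repCheck, Bool.and_eq_true] at h
    have := allBelow_spec h.1 h1
    simp only [Bool.and_eq_true] at this
    rw [conj_ly _ (inKLets_spec this.2 _ List.mem_cons_self), inv_mul_cancel]
  · rw [zz_ly, inv_mul_cancel]
  · rw [List.getD_eq_getElem?_getD]
    cases hq : FactData.data.rots[rotBase.getD (i - 9) 0]? with
    | none => simp [headW, itemsV]
    | some r => exact rel_ly r (List.mem_of_getElem? hq)

theorem comm_central {Γ : Type*} [Group Γ] {k m : Γ} (hk : k ∈ Subgroup.center Γ)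
    (hm : m ∈ Subgroup.center Γ) (A B : Γ) :
    k * A * (m * B) * (k * A)⁻¹ * (m * B)⁻¹ = A * B * A⁻¹ * B⁻¹ := by
  have hk' := Subgroup.mem_center_iff.1 hk
  have hm' := Subgroup.mem_center_iff.1 hm
  have e1 : k * A * (m * B) * (k * A)⁻¹ = A * (m * B) * A⁻¹ := by
    rw [show k * A * (m * B) * (k * A)⁻¹ = k * (A * (m * B) * A⁻¹) * k⁻¹ by group,
      ← hk' (A * (m * B) * A⁻¹), mul_inv_cancel_right]
  rw [e1, ← mul_assoc A, hm' A,
    show m * A * B * A⁻¹ * (m * B)⁻¹ = m * (A * B * A⁻¹ * B⁻¹) * m⁻¹ by group,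
    ← hm' (A * B * A⁻¹ * B⁻¹), mul_inv_cancel_right]

/-- Stem extensions of the Lyons group are trivial. -/
theorem ker_eq_bot {Γ : Type} [Group Γ] (σ : Γ →* LyG) (hσ : Cfsg.IsStemExtension σ) : σ.ker = ⊥ := by
  obtain ⟨hs, hcen, hder⟩ := hσ
  obtain ⟨ρ, hρ⟩ := exists_lift σ hs hcen
  obtain ⟨z0, hz0⟩ := hs zLy
  have cen : ∀ (i : ℕ) (z : Γ), σ z = zLy → rawC ρ z i ∈ Subgroup.center Γ := fun i z hz => hcen (by
    rw [MonoidHom.mem_ker, rawC_map, hρ, hz, rawC_ly])
  set w := rawC ρ z0 8 * (rawC ρ z0 9)⁻¹ with hw0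
  have hwk : σ w = 1 := by rw [hw0, map_mul, map_inv, rawC_map, rawC_map, hρ, hz0, rawC_ly, rawC_ly]; simp
  have hwc : w ∈ Subgroup.center Γ := hcen hwk
  set z := z0 * w with hz0w
  have hz : σ z = zLy := by rw [hz0w, map_mul, hwk, hz0, mul_one]
  let c : ℕ → Subgroup.center Γ := fun i => ⟨rawC ρ z i, cen i z hz⟩
  have hgauge : rawC ρ z 8 = rawC ρ z 9 := by
    have hlen : (FactData.data.rots.getD (rotBase.getD (9 - 9) 0) []).length = 3 :=
      Nat.eq_of_beq_eq_true gauge_ok
    have e8 : rawC ρ z 8 = rawC ρ z0 8 * (w * w) := by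
      simp only [rawC, if_neg (show ¬ 8 < 8 by norm_num), if_true, hz0w, mul_assoc]
      rw [← mul_assoc w z0, ← Subgroup.mem_center_iff.1 hwc z0, mul_assoc]
    have e9 : rawC ρ z 9 = rawC ρ z0 9 * w ^ 3 := by
      simp only [rawC, if_neg (show ¬ 9 < 8 by norm_num), if_neg (show ¬ (9 = 8) by norm_num), hz0w]
      rw [items_mul_central ρ z0 w hwc, hlen]
    have hcm := Subgroup.mem_center_iff.1 (cen 9 z0 hz0) (rawC ρ z0 8)
    rw [e8, e9, pow_succ', pow_two, ← mul_assoc (rawC ρ z0 9),
      show rawC ρ z0 9 * w = rawC ρ z0 8 by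
        rw [hw0, ← mul_assoc, ← hcm, mul_inv_cancel_right]]
  have hone : ∀ i < 14, rawC ρ z i = 1 := fun i hi =>
    const_one (c := c) (fun i _ => rfl) hgauge hi
  have R := wRules (ψ := ρ) (z := z) (c := c) fun i _ => rfl
  have hcg : ∀ v, cg c v = 1 := fun v => by
    rw [cg, cv, Finset.prod_eq_one fun i hi => by
      rw [show c i = 1 from Subtype.ext (hone i (Finset.mem_range.1 hi)), one_zpow]]
    rfl
  have Z : ZRules ρ z := ⟨by rw [R.zz, hcg, mul_one], fun l hl => by rw [R.conj l hl, hcg, mul_one],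
    fun r hr => by
      obtain ⟨q, hq, rfl⟩ := List.getElem_of_mem hr
      have := R.rel q hq
      rw [List.getD_eq_getElem _ _ hq, hcg] at this
      exact this⟩
  obtain ⟨f, hf⟩ := exists_hom Z
  have hsec : σ.comp f = MonoidHom.id LyG := PresentedGroup.ext fun g => by
    show σ (f (gOf g)) = gOf g
    rw [hf, map_wv, ← wv_code g]
    refine wv_congr _ fun l hl => ?_
    have h24 : l < 24 := by simpa using List.all_eq_true.1 (code_lt g) l hl
    unfold genV
    split_ifs with h
    · show (σ.comp ρ) _ = _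
      rw [hρ, psiLy_gen0 h]
    · rw [hz, show l / 2 = 11 by omega]; rfl
  have hf' : ∀ x, σ (f x) = x := fun x => DFunLike.congr_fun hsec x
  have key : ∀ g : Γ, ∃ k ∈ Subgroup.center Γ, g = k * f (σ g) := fun g =>
    ⟨g * (f (σ g))⁻¹, hcen (by rw [MonoidHom.mem_ker, map_mul, map_inv, hf', mul_inv_cancel]), by simp⟩
  have hcomm : commutator Γ ≤ f.range := by
    rw [commutator_def, Subgroup.commutator_le]
    intro a _ b _
    obtain ⟨k, hk, ea⟩ := key a
    obtain ⟨m, hm, eb⟩ := key b
    refine ⟨σ a * σ b * (σ a)⁻¹ * (σ b)⁻¹, ?_⟩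
    conv_rhs => rw [ea, eb]
    simp only [commutatorElement_def, map_mul, map_inv]
    exact (comm_central hk hm _ _).symm
  refine eq_bot_iff.2 fun g hg => ?_
  obtain ⟨x, rfl⟩ := hcomm (hder hg)
  have : σ (f x) = 1 := hg
  rw [hf'] at this
  simp [this]

end

end Cfsg.Agent.LyonsMult
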