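import Cfsg.Agent.Lib.LyonsMult.Check

/-!
A map out of the Lyons group from a map of its subgroup of order 5859000000 and one further element.
-/

set_option autoImplicit false
set_option maxRecDepth 100000

namespace Cfsg.Agent.LyonsMult

open Cfsg.Agent.CosetCert Cfsg.Agent.Lyons

noncomputable section

variable {Γ : Type*} [Group Γ] (ψ : H0 →* Γ) (z : Γ)

/-- The numbered generators in the target. -/
def genV (i : ℕ) : Γ := if i < 11 then ψ (gen0 i) else z

theorem genV_el {w : List ℕ} (h : letOK w = true) : wv (genV ψ z) w = ψ (el w) := by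
  rw [el, map_wv]
  exact wv_congr _ fun l hl => if_pos (show l / 2 < 11 by have := letOK_spec h l hl; omega)

theorem genV_z : wv (genV ψ z) [22] = z := by simp [wv, lt', genV]

theorem lift_relW (k : ℕ) :
    FreeGroup.lift (fun g => wv (genV ψ z) (code g)) (Cfsg.Spor.Ly.extra.getD k 1) =
      wv (genV ψ z) (relW k) := by
  conv_lhs => rw [← FreeGroup.mk_toWord (x := Cfsg.Spor.Ly.extra.getD k 1)]
  rw [FreeGroup.lift_mk]
  show _ = wv (genV ψ z) (expand code (relT k))
  rw [relT]
  generalize (Cfsg.Spor.Ly.extra.getD k 1).toWord = w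
  induction w with
  | nil => rfl
  | cons p w ih =>
    show _ = wv (genV ψ z) ((bif p.2 then code p.1 else invL (code p.1)) ++ expand code w)
    rw [wv_append, ← ih, List.map_cons, List.prod_cons]
    congr 1
    obtain ⟨g, b⟩ := p
    cases b <;> simp [wv_invL]

/-- What is needed for a map out of the Lyons group. -/
structure ZRules : Prop where
  zz : z * z = ψ (el wU)
  conj : ∀ l ∈ kLets, z⁻¹ * ψ (el [l]) * z = ψ (el (FactData.data.sig.get l))
  rel : ∀ r ∈ FactData.data.rots, itemsV ψ z (headW r) = 1

variable {ψ z}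

theorem cutZ_spec' (hzz : z * z = ψ (el wU)) : ∀ {w : List ℕ}, (∀ l ∈ w, l < 24) →
    letOK (cutZ w).1 = true ∧
      wv (genV ψ z) w = ψ (el (cutZ w).1) * itemsV ψ z (headW (cutZ w).2) := by
  intro w
  induction w with
  | nil => intro _; exact ⟨rfl, by simp [cutZ, headW, itemsV]⟩
  | cons l w ih =>
    intro hw
    obtain ⟨hok, ih⟩ := ih fun y hy => hw y (List.mem_cons_of_mem _ hy)
    have hl := hw l List.mem_cons_self
    rw [wv_cons, ih]
    show letOK (bif Nat.beq l 22 then _ else bif Nat.beq l 23 then _ else _ : List ℕ × List (List ℕ)).1 = true ∧ _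
    by_cases h22 : l = 22
    · subst h22
      refine ⟨rfl, ?_⟩
      simp [cutZ, headW, itemsV, itemV, lt', genV, mul_assoc]
    by_cases h23 : l = 23
    · subst h23
      refine ⟨rfl, ?_⟩
      have hz : (lt' (genV ψ z) 23) = z * (ψ (el wU))⁻¹ := by
        rw [← hzz]; simp [lt', genV]
      have hc : cutZ (23 :: w) = ([], (invL wU ++ (cutZ w).1) :: (cutZ w).2) := rfl
      rw [hc, hz]
      simp [headW, itemsV, itemV, el_invL, el_append, mul_assoc]
    · have e1 : Nat.beq l 22 = false := by
        cases hb : Nat.beq l 22 with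
        | false => rfl
        | true => exact absurd (Nat.eq_of_beq_eq_true hb) h22
      have e2 : Nat.beq l 23 = false := by
        cases hb : Nat.beq l 23 with
        | false => rfl
        | true => exact absurd (Nat.eq_of_beq_eq_true hb) h23
      have hc : cutZ (l :: w) = (l :: (cutZ w).1, (cutZ w).2) := by
        show (bif Nat.beq l 22 then _ else bif Nat.beq l 23 then _ else _ : List ℕ × List (List ℕ)) = _
        rw [e1, e2]; rfl
      have hok' : letOK (l :: (cutZ w).1) = true := by
        show (Nat.blt l 22 && letOK (cutZ w).1) = true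
        simp [hok]; omega
      refine ⟨by simpa [cutZ, e1, e2] using hok', ?_⟩
      rw [hc, ← genV_el ψ z hok', ← genV_el ψ z hok, wv_cons, mul_assoc]

theorem items_sameL : ∀ {a b : List (List ℕ)}, sameL a b = true →
    itemsV ψ z (headW a) = itemsV ψ z (headW b)
  | [], [], _ => rfl
  | u :: a, v :: b, h => by
    simp only [sameL, Bool.and_eq_true] at h
    have ih := items_sameL (a := a) (b := b) h.2
    simp only [itemsV, headW, itemV, List.map_cons, List.prod_cons] at ih ⊢
    rw [ih, eq_of_sameW h.1]
  | [], _ :: _, h => by simp [sameL] at h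
  | _ :: _, [], h => by simp [sameL] at h

theorem rel_conj (R : ZRules ψ z) {l k : ℕ} {g : Cfsg.Spor.Ly.Gen} (h : conjCheck l k g = true)
    (hl : l ∈ kLets) : wv (genV ψ z) (relW k) = 1 := by
  simp only [conjCheck, Bool.and_eq_true, Nat.blt_eq] at h
  obtain ⟨⟨⟨⟨hw, hlet⟩, hl'⟩, h1⟩, -⟩ := h
  rw [← wv_fred, eq_of_wordEq hw, wv_fred, wv_append, wv_invL, mul_inv_eq_one, genV_el ψ z hlet,
    eq_of_sameW h1, ← R.conj l hl, ← genV_el ψ z (w := [l]) (by simp [letOK, hl'])]
  simp [wv, lt', genV, mul_assoc]

theorem rel_all (R : ZRules ψ z) {k : ℕ} (hk : k < 86) : wv (genV ψ z) (relW k) = 1 := by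
  rcases Nat.lt_or_ge k 72 with h | h
  · have hs := allBelow_spec freeRels_ok h
    have hok : letOK (relW k) = true := by
      simp only [sameW, Bool.and_eq_true] at hs
      exact hs.1.1.1.1
    rw [genV_el ψ z hok, eq_of_sameW hs, show el ([] : List ℕ) = 1 from rfl, map_one]
  rcases Nat.lt_or_ge k 80 with h8 | h8
  · have hc := conjCheck_ok
    simp only [Bool.and_eq_true] at hc
    obtain ⟨⟨⟨⟨⟨⟨⟨h4, h10⟩, h12⟩, h14⟩, h16⟩, h0⟩, h18⟩, h20⟩ := hc
    interval_cases k
    exacts [rel_conj R h4 (by decide), rel_conj R h10 (by decide), rel_conj R h12 (by decide),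
      rel_conj R h14 (by decide), rel_conj R h16 (by decide), rel_conj R h0 (by decide),
      rel_conj R h18 (by decide), rel_conj R h20 (by decide)]
  rcases Nat.lt_or_ge k 81 with h1 | h1
  · obtain rfl : k = 80 := by omega
    rw [← wv_fred, eq_of_wordEq rel80_ok]
    have e : wv (genV ψ z) [1, 1] = ψ (el [1, 1]) := genV_el ψ z rfl
    rw [show [22, 22, 1, 1] = [22] ++ [22] ++ [1, 1] from rfl, wv_append, wv_append, genV_z, e, R.zz,
      ← map_mul, show el wU * el [1, 1] = 1 by simp [el, wv, lt', wU, mul_assoc], map_one]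
  · have hz := zRels_ok
    simp only [zRels, Bool.and_eq_true, List.all_eq_true, List.any_eq_true, Nat.blt_eq] at hz
    have hmem : k ∈ [81, 82, 83, 84, 85] := by simp; omega
    obtain ⟨⟨hlt, hne⟩, q, hq, hs⟩ := hz.2 k hmem
    rw [List.mem_range] at hq
    have hr : FactData.data.rots.getD q [] ∈ FactData.data.rots := by
      have hl : FactData.data.rots.length = 18 := by
        have := rotCheck_ok
        simp only [rotCheck, Bool.and_eq_true, Nat.beq_eq] at this
        exact this.1
      rw [List.getD_eq_getElem _ _ (by omega)]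
      exact List.getElem_mem _
    obtain ⟨-, e⟩ := cutZ_spec' R.zz hlt
    rw [e]
    have hclosed : itemsV ψ z (headW (closeW (cutZ (relW k)))) = 1 := by
      rw [← items_sameL hs]; exact R.rel _ hr
    generalize cutZ (relW k) = c at hclosed hne ⊢
    obtain ⟨f, l⟩ := c
    simp only [closeW] at hclosed ⊢
    cases hl : l.reverse with
    | nil => simp [List.reverse_eq_nil_iff.1 hl] at hne
    | cons x t =>
      have : l = t.reverse ++ [x] := by rw [← List.reverse_cons, ← hl, List.reverse_reverse]
      subst this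
      rw [hl] at hclosed
      simp only [headW_append, itemsV_append] at hclosed ⊢
      simp only [itemsV, headW, itemV, List.map_cons, List.map_nil, List.prod_cons, List.prod_nil,
        el_append, map_mul, mul_one] at hclosed ⊢
      set P := ((headW t.reverse).map (itemV ψ z)).prod
      calc ψ (el f) * (P * (z * ψ (el x)))
          = ψ (el f) * (P * (z * (ψ (el x) * ψ (el f)))) * (ψ (el f))⁻¹ := by group
        _ = 1 := by rw [hclosed]; group

/-- A map out of the Lyons group. -/
theorem exists_hom (R : ZRules ψ z) :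
    ∃ f : LyG →* Γ, ∀ g, f (gOf g) = wv (genV ψ z) (code g) := by
  refine ⟨PresentedGroup.toGroup (f := fun g => wv (genV ψ z) (code g)) ?_, fun g => PresentedGroup.toGroup.of _⟩
  rintro r (hr | hr)
  · obtain ⟨x, hx, -⟩ := hr
    simp [Cfsg.Spor.Ly.edges, Cfsg.Spor.coxNodes] at hx
  · obtain ⟨k, hk, rfl⟩ := List.getElem_of_mem (show r ∈ Cfsg.Spor.Ly.extra from hr)
    have hlen : Cfsg.Spor.Ly.extra.length = 86 := by
      have := zRels_ok
      simp only [zRels, Bool.and_eq_true, Nat.beq_eq] at this
      exact this.1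
    rw [← List.getD_eq_getElem _ (1 : FreeGroup Cfsg.Spor.Ly.Gen) hk, lift_relW]
    exact rel_all R (hlen ▸ hk)

end

end Cfsg.Agent.LyonsMult
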