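import Cfsg.Agent.Lib.Lyons.Deduce
import Mathlib.GroupTheory.Subgroup.Center
import Mathlib.Algebra.BigOperators.Group.Finset.Basic
import Mathlib.Algebra.BigOperators.Group.List.Basic

/-!
The deductions of the index bound replayed up to fourteen central elements: each fact holds up to a listed
product of them.
-/

set_option autoImplicit false
set_option maxRecDepth 100000

namespace Cfsg.Agent.LyonsMult

open Cfsg.Agent.CosetCert Cfsg.Agent.Lyons
open scoped IsMulCommutative

noncomputable section

/-! ### Exponent vectors -/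

/-- Exponent `i` of a vector. -/
def vget (v : List ℤ) (i : ℕ) : ℤ := v.getD i 0

/-- Sum of two vectors. -/
def addV (a b : List ℤ) : List ℤ := (List.range 14).map fun i => vget a i + vget b i

/-- A multiple of a vector. -/
def smulV (k : ℤ) (a : List ℤ) : List ℤ := (List.range 14).map fun i => k * vget a i

/-- A unit vector. -/
def unitV (j : ℕ) : List ℤ := (List.range 14).map fun i => bif Nat.beq i j then 1 else 0

theorem vget_map {f : ℕ → ℤ} {i : ℕ} (h : i < 14) : vget ((List.range 14).map f) i = f i := by
  rw [vget, List.getD_eq_getElem _ _ (by simpa using h)]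
  simp

variable {G : Type*} [Group G] (c : ℕ → Subgroup.center G)

/-- The central element of a vector. -/
def cv (v : List ℤ) : Subgroup.center G := ∏ i ∈ Finset.range 14, c i ^ vget v i

theorem cv_addV (a b : List ℤ) : cv c (addV a b) = cv c a * cv c b := by
  rw [cv, cv, cv, ← Finset.prod_mul_distrib]
  refine Finset.prod_congr rfl fun i hi => ?_
  rw [addV, vget_map (Finset.mem_range.1 hi), zpow_add]

theorem cv_smulV (k : ℤ) (a : List ℤ) : cv c (smulV k a) = cv c a ^ k := by
  rw [cv, cv, ← Finset.prod_zpow]
  refine Finset.prod_congr rfl fun i hi => ?_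
  rw [smulV, vget_map (Finset.mem_range.1 hi), mul_comm k, zpow_mul]

theorem cv_unitV {j : ℕ} (hj : j < 14) : cv c (unitV j) = c j := by
  rw [cv, Finset.prod_eq_single j]
  · rw [unitV, vget_map hj, show Nat.beq j j = true from Nat.beq_eq.mpr rfl]
    simp
  · intro i hi hij
    rw [unitV, vget_map (Finset.mem_range.1 hi)]
    cases hb : Nat.beq i j with
    | false => simp
    | true => exact absurd (Nat.eq_of_beq_eq_true hb) hij
  · intro h; exact absurd (Finset.mem_range.2 hj) h

theorem cv_nil : cv c [] = 1 := by simp [cv, vget]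

/-- The central element, in the group. -/
def cg (v : List ℤ) : G := (cv c v : G)

theorem cg_nil : cg c [] = 1 := by rw [cg, cv_nil]; rfl

theorem cg_addV (a b : List ℤ) : cg c (addV a b) = cg c a * cg c b := by rw [cg, cv_addV]; rfl

theorem cg_smulV (k : ℤ) (a : List ℤ) : cg c (smulV k a) = cg c a ^ k := by
  rw [cg, cv_smulV, SubgroupClass.coe_zpow]; rfl

theorem cg_neg (a : List ℤ) : cg c (smulV (-1) a) = (cg c a)⁻¹ := by rw [cg_smulV, zpow_neg_one]

theorem cg_comm (v : List ℤ) (g : G) : g * cg c v = cg c v * g := Subgroup.mem_center_iff.1 (cv c v).2 g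

theorem cg_left (v : List ℤ) (g h : G) : g * (cg c v * h) = cg c v * (g * h) := by
  rw [← mul_assoc, cg_comm c v g, mul_assoc]

/-! ### Letters -/

/-- The place of a generator of the conjugated subgroup. -/
def kIdx : ℕ → ℕ
  | 2 => 1
  | 5 => 2
  | 6 => 3
  | 7 => 4
  | 8 => 5
  | 9 => 6
  | 10 => 7
  | _ => 0

/-- The vector of a letter. -/
def eV (l : ℕ) : List ℤ :=
  bif Nat.beq (Nat.mod l 2) 0 then unitV (kIdx (Nat.div l 2)) else smulV (-1) (unitV (kIdx (Nat.div l 2)))

/-- The vector of a word. -/
def eW (w : List ℕ) : List ℤ := List.rec [] (fun l _ r => addV (eV l) r) w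

/-- The vector of `z * z`. -/
def zzV : List ℤ := unitV 8

variable (D : DData) (rotQ : List ℕ) (CV : List (List ℤ))

/-- The vector of a rotated relator. -/
def rotV (q : ℕ) : List ℤ := unitV (Nat.add 9 (rotQ.getD q 0))

/-- The vector of fact `n`. -/
def facV (n : ℕ) : List ℤ := CV.getD n []

variable (ψ : H0 →* G) (z : G) (x : ℕ → G)

/-- The rules up to central elements. -/
structure WRules : Prop where
  x0 : x 0 = 1
  x1 : x 1 = z
  zz : z * z = ψ (el wU) * cg c zzV
  conj : ∀ l ∈ kLets, z⁻¹ * ψ (el [l]) * z = ψ (el (D.sig.get l)) * cg c (eV l)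
  rel : ∀ q < D.rots.length, itemsV ψ z (headW (D.rots.getD q [])) = cg c (rotV rotQ q)
  def_ : ∀ d ∈ D.defs, x d.1 = x d.2.1 * ψ (el d.2.2) * z

/-- The meaning of fact `n`. -/
def WHolds (n : ℕ) : Prop :=
  x (D.fact n).i * ψ (el (D.fact n).u) * z ^ (D.fact n).e =
    ψ (el (D.fact n).A) * x (D.fact n).j * ψ (el (D.fact n).v) * cg c (facV CV n)

variable {D rotQ CV ψ z x}

/-- What a move adds to the vector. -/
def moveV : List ℕ → List ℤ
  | [2, m, rev] => bif Nat.beq rev 0 then facV CV m else smulV (-1) (facV CV m)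
  | 3 :: m :: c => addV (facV CV m) (eW c)
  | _ => []

/-- The vector of a list of moves. -/
def movesV (CV : List (List ℤ)) (l : List (List ℕ)) : List ℤ :=
  List.rec [] (fun m _ r => addV (moveV (CV := CV) m) r) l

section sound

variable (R : WRules c D rotQ ψ z x)

include R

theorem conj_wW : ∀ {w : List ℕ}, (∀ l ∈ w, l ∈ kLets) →
    z⁻¹ * ψ (el w) * z = ψ (el (sigW D w)) * cg c (eW w)
  | [], _ => by simp [sigW, eW, cg_nil]
  | l :: w, h => by
    show _ = ψ (el (D.sig.get l ++ sigW D w)) * cg c (addV (eV l) (eW w))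
    rw [show l :: w = [l] ++ w from rfl, el_append, el_append, map_mul, map_mul, cg_addV,
      show z⁻¹ * (ψ (el [l]) * ψ (el w)) * z = (z⁻¹ * ψ (el [l]) * z) * (z⁻¹ * ψ (el w) * z) by group,
      R.conj l (h l List.mem_cons_self), conj_wW fun y hy => h y (List.mem_cons_of_mem _ hy)]
    simp only [mul_assoc, cg_left]

theorem moveStep_weight {n : ℕ} {m : List ℕ} {st st' : DSt} (hF : ∀ k < n, WHolds c D CV ψ z x k)
    (h : moveStep D n st m = some st') {base : G} {g : List ℤ}
    (hv : st.val ψ x * cg c g = base * itemsV ψ z st.W) :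
    st'.val ψ x * cg c (addV (moveV (CV := CV) m) g) = base * itemsV ψ z st'.W := by
  simp only [DSt.val] at hv ⊢
  rw [cg_addV]
  unfold moveStep at h
  split at h
  · obtain rfl := Option.some.inj h
    simp only [moveV, cg_nil, one_mul]
    rw [el_append, map_mul, itemsV_append, ← mul_assoc base, ← hv]
    simp only [itemsV, itemV, List.map_cons, List.map_nil, List.prod_cons, List.prod_nil, mul_one, mul_assoc,
      ← cg_comm]
  · cases hk : Nat.beq st.k 0 with
    | false => simp [hk] at h
    | true =>
      simp only [hk, cond_true, Option.some.injEq] at h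
      subst h
      rw [Nat.eq_of_beq_eq_true hk, R.x0] at hv
      simp only [moveV, cg_nil, one_mul]
      simp [el_append, R.x0, ← hv, mul_assoc]
  · rename_i m rev
    simp only at h
    cases hc : (Nat.blt m n && Nat.beq (D.fact m).e 0) with
    | false => simp [hc] at h
    | true =>
      simp only [hc, cond_true] at h
      simp only [Bool.and_eq_true, Nat.blt_eq, Nat.beq_eq] at hc
      have hf := hF m hc.1
      simp only [WHolds, hc.2, pow_zero, mul_one] at hf
      cases hr : Nat.beq rev 0 with
      | true =>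
        simp only [hr, cond_true] at h
        cases hk : Nat.beq st.k (D.fact m).i with
        | false => simp [hk] at h
        | true =>
          simp only [hk, cond_true, Option.some.injEq] at h
          subst h
          rw [Nat.eq_of_beq_eq_true hk] at hv
          simp only [moveV, hr, cond_true]
          simp only [el_append, el_invL, map_mul, map_inv]
          rw [← hv]
          have hf' : x (D.fact m).j * ψ (el (D.fact m).v) =
              (ψ (el (D.fact m).A))⁻¹ * (x (D.fact m).i * ψ (el (D.fact m).u)) * (cg c (facV CV m))⁻¹ := by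
            rw [hf]; group
          calc _ = ψ (el st.A) * ψ (el (D.fact m).A) * (x (D.fact m).j * ψ (el (D.fact m).v)) *
                (ψ (el (D.fact m).u))⁻¹ * ψ (el st.u) * (cg c (facV CV m) * cg c g) := by group
            _ = ψ (el st.A) * x (D.fact m).i * ψ (el (D.fact m).u) * ((cg c (facV CV m))⁻¹ *
                ((ψ (el (D.fact m).u))⁻¹ * (ψ (el st.u) * (cg c (facV CV m) * cg c g)))) := by
              rw [hf']; group
            _ = _ := by
              rw [cg_left c (facV CV m) (ψ (el st.u)), cg_left c (facV CV m) (ψ (el (D.fact m).u))⁻¹]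
              group
      | false =>
        simp only [hr, cond_false] at h
        cases hk : Nat.beq st.k (D.fact m).j with
        | false => simp [hk] at h
        | true =>
          simp only [hk, cond_true, Option.some.injEq] at h
          subst h
          rw [Nat.eq_of_beq_eq_true hk] at hv
          simp only [moveV, hr, cond_false, cg_neg]
          simp only [el_append, el_invL, map_mul, map_inv]
          rw [← hv]
          calc _ = ψ (el st.A) * (ψ (el (D.fact m).A))⁻¹ * (x (D.fact m).i * ψ (el (D.fact m).u)) *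
                ((ψ (el (D.fact m).v))⁻¹ * (ψ (el st.u) * ((cg c (facV CV m))⁻¹ * cg c g))) := by group
            _ = ψ (el st.A) * (x (D.fact m).j * (ψ (el (D.fact m).v) * (cg c (facV CV m) *
                ((ψ (el (D.fact m).v))⁻¹ * (ψ (el st.u) * ((cg c (facV CV m))⁻¹ * cg c g)))))) := by
              rw [hf]; group
            _ = _ := by
              rw [← cg_left c (facV CV m) (ψ (el (D.fact m).v))⁻¹, ← cg_left c (facV CV m) (ψ (el st.u))]
              group
  · rename_i m w
    simp only at h
    cases hc : (Nat.blt m n && Nat.beq (D.fact m).e 1 && Nat.beq st.k (D.fact m).i && inKLets w &&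
        sameW ((D.fact m).u ++ w) st.u) with
    | false => simp [hc] at h
    | true =>
      simp only [hc, cond_true, Option.some.injEq] at h
      subst h
      simp only [Bool.and_eq_true, Nat.blt_eq, Nat.beq_eq] at hc
      obtain ⟨⟨⟨⟨hm, he⟩, hk⟩, hK⟩, hu⟩ := hc
      have hf := hF m hm
      simp only [WHolds, he, pow_one] at hf
      rw [hk, ← eq_of_sameW hu, el_append, map_mul] at hv
      have hs := conj_wW c R (inKLets_spec hK)
      have hcz := cg_comm c g z
      simp only [moveV, cg_addV]
      rw [itemsV_append, ← mul_assoc base, ← hv, el_append, el_append, map_mul, map_mul,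
        show itemsV ψ z [none] = z by simp [itemsV, itemV]]
      calc _ = ψ (el st.A) * (ψ (el (D.fact m).A) * x (D.fact m).j * ψ (el (D.fact m).v) *
              cg c (facV CV m)) * (ψ (el (sigW D w)) * cg c (eW w)) * cg c g := by
            simp only [mul_assoc]
            rw [cg_left c (facV CV m) (ψ (el (sigW D w)))]
        _ = ψ (el st.A) * (x (D.fact m).i * ψ (el (D.fact m).u) * z) * (z⁻¹ * ψ (el w) * z) * cg c g := by
            rw [← hf, hs]
        _ = ψ (el st.A) * x (D.fact m).i * ψ (el (D.fact m).u) * ψ (el w) * (z * cg c g) := by group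
        _ = _ := by rw [hcz]; group
  · simp at h

theorem runMoves_weight {n : ℕ} (hF : ∀ k < n, WHolds c D CV ψ z x k) {base : G} :
    ∀ (l : List (List ℕ)) {st st' : DSt} {g : List ℤ}, runMoves D n l st = some st' →
      st.val ψ x * cg c g = base * itemsV ψ z st.W →
      st'.val ψ x * (cg c (movesV CV l) * cg c g) = base * itemsV ψ z st'.W := by
  intro l
  induction l with
  | nil =>
    intro st st' g h hv
    obtain rfl := Option.some.inj h
    simpa [movesV, cg_nil] using hv
  | cons m l ih =>
    intro st st' g h hv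
    simp only [runMoves] at h
    cases hs : moveStep D n st m with
    | none => simp [hs] at h
    | some s =>
      simp only [hs] at h
      have := ih h (moveStep_weight c R hF hs hv)
      show st'.val ψ x * (cg c (addV (moveV (CV := CV) m) (movesV CV l)) * cg c g) = _
      rw [cg_addV] at this ⊢
      rwa [cg_comm c (movesV CV l) (cg c (moveV (CV := CV) m)), mul_assoc]

theorem head_tail_weight : ∀ {l : List (List ℕ)}, l ≠ [] →
    itemsV ψ z (headW l) = z * (itemsV ψ z (tailW l))⁻¹ * cg c (smulV ((l.length : ℤ) - 1) zzV)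
  | [], h => absurd rfl h
  | [h], _ => by
    simp [headW, tailW, itemsV, itemV, el_invL, cg_smulV]
  | h :: h' :: l, _ => by
    have ih := head_tail_weight (l := h' :: l) (by simp)
    show itemsV ψ z (none :: some h :: headW (h' :: l)) = _
    rw [show tailW (h :: h' :: l) = tailW (h' :: l) ++ [none, some (invL wU), some (invL h)] from rfl,
      show none :: some h :: headW (h' :: l) = [none, some h] ++ headW (h' :: l) from rfl,
      itemsV_append, itemsV_append, ih,
      show ((h :: h' :: l).length : ℤ) - 1 = 1 + (((h' :: l).length : ℤ) - 1) by simp; ring,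
      cg_smulV, cg_smulV, zpow_add, zpow_one]
    simp only [itemsV, itemV, List.map_cons, List.map_nil, List.prod_cons, List.prod_nil, mul_one,
      el_invL, map_inv]
    have hw : ψ (el wU) = z * z * (cg c zzV)⁻¹ := by rw [R.zz, mul_inv_cancel_right]
    rw [hw]
    simp only [mul_inv_rev, inv_inv, mul_assoc]
    generalize (List.map (itemV ψ z) (tailW (h' :: l))).prod⁻¹ = T
    rw [← cg_neg c zzV, ← cg_left c (smulV (-1) zzV) z⁻¹, ← cg_left c (smulV (-1) zzV) T, cg_neg]
    group

end sound

variable (D rotQ CV)

/-- The vector of fact `n` is the one its proof gives. -/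
def okFactV (n : ℕ) : Bool :=
  okFact D n &&
    (match D.P.getD n [] with
    | [[0]] => decide (facV CV n = addV [] [])
    | [[1, m]] => decide (facV CV n = addV zzV (smulV (-1) (facV CV m)))
    | [[2, l]] => decide (facV CV n = eW [l])
    | [3] :: mv => decide (facV CV n = addV (movesV CV mv) [])
    | [4, i0, len, q, a] :: h :: mv =>
      match runMoves D n (mv.take len) ⟨[], i0, h, []⟩, runMoves D n (mv.drop len) ⟨[], i0, h, []⟩ with
      | some s₁, some s₂ =>
        let d := addV (movesV CV (mv.drop len)) (smulV (-1) (movesV CV (mv.take len)))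
        let r := D.rots.getD q []
        bif Nat.beq (D.fact n).e 0 && itemsEq s₁.W s₂.W then decide (facV CV n = addV d [])
        else bif Nat.beq (D.fact n).e 0 && itemsEq s₁.W (headW r) && itemsEq s₂.W [] then
          Nat.blt q D.rots.length && decide (facV CV n = addV d (rotV rotQ q))
        else Nat.blt q D.rots.length &&
          decide (facV CV n = addV d (addV (rotV rotQ q) (smulV (-(((r.drop a).length : ℤ) - 1)) zzV)))
      | _, _ => false
    | _ => false)

variable {D rotQ CV}

theorem zshift {a P T z : G} {u v w : List ℤ} (h : P * (z * T⁻¹ * cg c v) = cg c w) :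
    a * P * (cg c u)⁻¹ * z = a * T * ((cg c u)⁻¹ * (cg c w * (cg c v)⁻¹)) := by
  rw [← cg_neg c u, ← cg_neg c v, ← cg_addV c w]
  have hPz : P * z = T * cg c (addV w (smulV (-1) v)) := by
    rw [cg_comm c _ T, cg_addV, cg_neg, ← h]
    group
  calc a * P * cg c (smulV (-1) u) * z = a * (P * z) * cg c (smulV (-1) u) := by
        simp only [mul_assoc]; rw [cg_comm c _ z]
    _ = _ := by rw [hPz]; simp only [mul_assoc]; rw [cg_comm c (smulV (-1) u)]

theorem headW_split : ∀ (r : List (List ℕ)) (a : ℕ), headW r = headW (r.take a) ++ headW (r.drop a)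
  | [], a => by simp [headW]
  | _ :: _, 0 => rfl
  | y :: r, a + 1 => by simp [headW, List.take_succ_cons, List.drop_succ_cons, ← headW_split r a]

theorem okFactV_sound (R : WRules c D rotQ ψ z x) {n : ℕ} (h : okFactV D rotQ CV n = true)
    (hF : ∀ k < n, WHolds c D CV ψ z x k) : WHolds c D CV ψ z x n := by
  simp only [WHolds]
  rw [okFactV, Bool.and_eq_true] at h
  obtain ⟨h, hV⟩ := h
  simp only [okFact] at h
  set f := D.fact n with hf0
  split at h
  · simp only [Bool.and_eq_true, Nat.beq_eq, List.any_eq_true] at h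
    obtain ⟨⟨⟨he, hA⟩, hv⟩, d, hd, ⟨hj, hi⟩, hu⟩ := h
    simp_all only [decide_eq_true_eq]
    rw [pow_one, eq_of_sameW hA, eq_of_sameW hv, ← eq_of_wordEq hu, ← hi, ← hj, cg_addV, cg_nil, mul_one]
    simp [R.def_ d hd]
  · rename_i m hP
    simp only [hP, decide_eq_true_eq] at hV
    simp only [Bool.and_eq_true, Bool.or_eq_true, Nat.beq_eq, Nat.blt_eq] at h
    obtain ⟨⟨⟨⟨⟨⟨hm, he⟩, he'⟩, hi⟩, hj⟩, hu⟩, hAv⟩ := h
    have hf := hF m hm
    simp only [WHolds, he', pow_one] at hf
    have key : ψ (el f.A) * x f.j * ψ (el f.v) =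
        (ψ (el (D.fact m).A))⁻¹ * x (D.fact m).i * ψ (el ((D.fact m).u ++ wU)) := by
      rcases hAv with ⟨hA, hv⟩ | ⟨⟨hj0, hA⟩, hv⟩
      · rw [eq_of_sameW hA, eq_of_sameW hv, hj, el_invL, map_inv]
      · rw [eq_of_sameW hA, eq_of_sameW hv, ← hj, hj0, R.x0, mul_one, el_append, el_append, el_invL,
          el_append]
        simp [mul_assoc]
    rw [key, he, hi, eq_of_sameW hu, pow_one, el_append, map_mul, hV, cg_addV, cg_neg]
    calc x (D.fact m).j * ψ (el (D.fact m).v) * z
        = (ψ (el (D.fact m).A))⁻¹ * (ψ (el (D.fact m).A) * x (D.fact m).j * ψ (el (D.fact m).v) *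
            cg c (facV CV m)) * ((cg c (facV CV m))⁻¹ * z) := by group
      _ = (ψ (el (D.fact m).A))⁻¹ * (x (D.fact m).i * ψ (el (D.fact m).u) * z) *
            ((cg c (facV CV m))⁻¹ * z) := by rw [hf]
      _ = (ψ (el (D.fact m).A))⁻¹ * x (D.fact m).i * ψ (el (D.fact m).u) * (z * z) *
            (cg c (facV CV m))⁻¹ := by
          rw [← cg_neg]; simp only [mul_assoc, cg_comm c (smulV (-1) (facV CV m)) z]
      _ = _ := by rw [R.zz]; group
  · rename_i l hP
    simp only [hP, decide_eq_true_eq] at hV
    simp only [Bool.and_eq_true, Nat.beq_eq] at h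
    obtain ⟨⟨⟨⟨⟨⟨hl, he⟩, hi⟩, hj⟩, hu⟩, hv⟩, hA⟩ := h
    have hw := conj_wW c R (inKLets_spec hl)
    have hl' : ψ (el [l]) = z * (ψ (el (sigW D [l])) * cg c (eW [l])) * z⁻¹ := by rw [← hw]; group
    rw [he, hi, hj, eq_of_sameW hu, eq_of_sameW hv, eq_of_sameW hA, R.x1, el_append, el_append, map_mul,
      map_mul, el_invL, map_inv, hV, hl']
    rw [show el ([] : List ℕ) = 1 from rfl]
    simp only [map_one, mul_one, pow_zero, mul_assoc]
    have e1 : ψ (el wU) = z * z * (cg c zzV)⁻¹ := by rw [R.zz, mul_inv_cancel_right]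
    rw [e1]
    simp only [mul_assoc, mul_inv_rev, inv_inv]
    rw [← cg_neg, ← cg_left c (smulV (-1) zzV) (ψ (el (sigW D [l]))), cg_neg, inv_mul_cancel_left,
      inv_mul_cancel_left, cg_comm c (eW [l]) z⁻¹]
  · rename_i mv hP
    simp only [hP, decide_eq_true_eq] at hV
    cases hr : runMoves D n mv ⟨[], f.i, f.u, []⟩ with
    | none => simp [hr] at h
    | some st =>
      simp only [hr, Bool.and_eq_true, Bool.or_eq_true, Nat.beq_eq] at h
      obtain ⟨⟨⟨hcase, hj⟩, hA⟩, hv⟩ := h
      have key := runMoves_weight c R hF (base := x f.i * ψ (el f.u)) mv hr (g := [])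
        (by simp [DSt.val, itemsV, cg_nil])
      simp only [DSt.val] at key
      rw [← eq_of_sameW hA, ← eq_of_sameW hv, ← hj] at key
      rw [hV, cg_addV, key]
      rcases hcase with ⟨he, hW⟩ | ⟨he, hW⟩
      · rw [he, itemsV_eq_of_itemsEq hW]; simp [itemsV]
      · rw [he, itemsV_eq_of_itemsEq hW]; simp [itemsV, itemV]
  · rename_i i0 len q a h0 mv hP
    simp only [hP] at hV
    cases h1 : runMoves D n (mv.take len) ⟨[], i0, h0, []⟩ with
    | none => simp [h1] at h
    | some s₁ =>
      cases h2 : runMoves D n (mv.drop len) ⟨[], i0, h0, []⟩ with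
      | none => simp [h1, h2] at h
      | some s₂ =>
        simp only [h1, h2, Bool.and_eq_true, Bool.or_eq_true, Nat.beq_eq, Nat.blt_eq] at h
        simp only [h1, h2] at hV
        obtain ⟨⟨⟨⟨⟨hi, hj⟩, hu⟩, hv⟩, hA⟩, hcase⟩ := h
        have k1 := runMoves_weight c R hF (base := x i0 * ψ (el h0)) _ h1 (g := [])
          (by simp [DSt.val, itemsV, cg_nil])
        have k2 := runMoves_weight c R hF (base := x i0 * ψ (el h0)) _ h2 (g := [])
          (by simp [DSt.val, itemsV, cg_nil])
        simp only [DSt.val, cg_nil, mul_one] at k1 k2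
        rw [← hi, ← eq_of_sameW hu] at k1
        rw [← hj, ← eq_of_sameW hv] at k2
        set g1 := cg c (movesV CV (mv.take len)) with hg1
        set g2 := cg c (movesV CV (mv.drop len)) with hg2
        set B := x i0 * ψ (el h0) with hB
        have c1 : ∀ y, y * g1 = g1 * y := cg_comm c _
        have eX : x f.i * ψ (el f.u) = (ψ (el s₁.A))⁻¹ * B * itemsV ψ z s₁.W * g1⁻¹ := by
          rw [mul_assoc _ B, ← k1]; group
        have eY : x f.j * ψ (el f.v) = (ψ (el s₂.A))⁻¹ * B * itemsV ψ z s₂.W * g2⁻¹ := by
          rw [mul_assoc _ B, ← k2]; group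
        have goalR : ∀ d : G, ψ (el f.A) * x f.j * ψ (el f.v) * (g2 * g1⁻¹ * d) =
            (ψ (el s₁.A))⁻¹ * B * itemsV ψ z s₂.W * (g1⁻¹ * d) := by
          intro d
          rw [eq_of_sameW hA, el_append, el_invL, map_mul, map_inv, mul_assoc _ (x f.j), eY]
          group
        set r := D.rots.getD q [] with hrdef
        have hd : cg c (addV (movesV CV (mv.drop len)) (smulV (-1) (movesV CV (mv.take len)))) = g2 * g1⁻¹ := by
          rw [cg_addV, cg_neg]
        cases hb1 : (Nat.beq f.e 0 && itemsEq s₁.W s₂.W) with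
        | true =>
          simp only [hb1, cond_true, decide_eq_true_eq] at hV
          simp only [Bool.and_eq_true, Nat.beq_eq] at hb1
          rw [hV, cg_addV, hd, cg_nil, goalR, hb1.1, pow_zero, mul_one, eX, itemsV_eq_of_itemsEq hb1.2]
          simp [mul_assoc]
        | false =>
          simp only [hb1, cond_false] at hV
          cases hb2 : (Nat.beq f.e 0 && itemsEq s₁.W (headW r) && itemsEq s₂.W []) with
          | true =>
            simp only [hb2, cond_true, Bool.and_eq_true, Nat.blt_eq, decide_eq_true_eq] at hV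
            simp only [Bool.and_eq_true, Nat.beq_eq] at hb2
            obtain ⟨⟨he, hW1⟩, hW2⟩ := hb2
            rw [hV.2, cg_addV, hd, goalR, he, pow_zero, mul_one, eX, itemsV_eq_of_itemsEq hW1,
              itemsV_eq_of_itemsEq hW2, hrdef, R.rel q hV.1]
            simp only [itemsV, List.map_nil, List.prod_nil, mul_one, mul_assoc]
            rw [show g1⁻¹ * cg c (rotV rotQ q) = cg c (rotV rotQ q) * g1⁻¹ from cg_comm c _ _]
          | false =>
            simp only [hb2, cond_false, Bool.and_eq_true, Nat.blt_eq, decide_eq_true_eq] at hV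
            rcases hcase with (⟨he, hW⟩ | ⟨⟨he, hW1⟩, hW2⟩) | ⟨⟨⟨he, ha⟩, hW1⟩, hW2⟩
            · rw [he, hW] at hb1; simp at hb1
            · rw [he, hW1, hW2] at hb2; simp at hb2
            rw [hV.2, cg_addV, hd, goalR, he, pow_one, eX, itemsV_eq_of_itemsEq hW1,
              itemsV_eq_of_itemsEq hW2, cg_addV, cg_smulV, zpow_neg, ← cg_smulV, hrdef]
            have hne : r.drop a ≠ [] := by simp [List.drop_eq_nil_iff]; omega
            have hE := R.rel q hV.1
            rw [← hrdef] at hE ⊢
            rw [headW_split r a, itemsV_append, head_tail_weight c R hne] at hE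
            rw [hg1]
            exact zshift c hE
  · simp at h

end

end Cfsg.Agent.LyonsMult
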